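import Mathlib
import Cfsg.Prelude.Def_OddOrderLocal
import Cfsg.Prelude.Def_OddOrder

/-!
BG Lemma 9.5, package P-F (helper89): for `A ∈ SCN(P)` in a minimal simple group of odd order,
`A ⊓ N(A)' ≠ ⊥` (Burnside's transfer theorem).
-/

set_option autoImplicit false

namespace Cfsg.Agent.Lib.Helper89.BG95

open Cfsg

universe u

variable {G : Type u} [Group G]

/-- If `A ⊓ N(A)' = ⊥` then `N(A)` centralizes `A`. -/
theorem normalizer_le_centralizer_of_inf_commutator_eq_bot {A : Subgroup G}
    (h : A ⊓ ⁅Subgroup.normalizer (A : Set G), Subgroup.normalizer (A : Set G)⁆ = ⊥) :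
    Subgroup.normalizer (A : Set G) ≤ Subgroup.centralizer (A : Set G) := by
  intro n hn
  rw [Subgroup.mem_centralizer_iff]
  intro a ha
  have h1 : n * a * n⁻¹ * a⁻¹ ∈ A :=
    A.mul_mem ((Subgroup.mem_normalizer_iff.mp hn a).mp ha) (A.inv_mem ha)
  have h2 : n * a * n⁻¹ * a⁻¹ ∈
      ⁅Subgroup.normalizer (A : Set G), Subgroup.normalizer (A : Set G)⁆ := by
    have := Subgroup.commutator_mem_commutator hn (Subgroup.le_normalizer ha)
    rwa [commutatorElement_def] at this
  have h3 : n * a * n⁻¹ * a⁻¹ ∈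
      A ⊓ ⁅Subgroup.normalizer (A : Set G), Subgroup.normalizer (A : Set G)⁆ := ⟨h1, h2⟩
  rw [h, Subgroup.mem_bot] at h3
  have h4 : n * a = a * n := by
    have := congrArg (fun x => x * a * n) h3
    simpa [mul_assoc] using this
  exact h4.symm

/-- Package P-F: in a minimal simple group, for `A ∈ SCN(P)` with `A ≠ ⊥`, `A ⊓ N(A)' ≠ ⊥`. -/
theorem scn_inf_commutator_normalizer_ne_bot [Finite G] (hs : IsSimpleGroup G)
    (hnc : ¬ IsMulCommutative G) {p : ℕ} [Fact p.Prime] (P : Sylow p G) {A : Subgroup G}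
    (hA : IsSCN (P : Subgroup G) A) (hA1 : A ≠ ⊥) :
    A ⊓ ⁅Subgroup.normalizer (A : Set G), Subgroup.normalizer (A : Set G)⁆ ≠ ⊥ := by
  intro h
  have hNC := normalizer_le_centralizer_of_inf_commutator_eq_bot h
  obtain ⟨hAP, hPN, hPC⟩ := hA
  have hPA : (P : Subgroup G) = A := by
    rw [← hPC]
    exact (inf_eq_left.mpr (hPN.trans hNC)).symm
  have hP : Subgroup.normalizer ((P : Subgroup G) : Set G) ≤ Subgroup.centralizer ((P : Subgroup G) : Set G) := by
    rw [hPA]; exact hNC
  have hcompl := MonoidHom.ker_transferSylow_isComplement' P hP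
  have hker : (MonoidHom.transferSylow P hP).ker.Normal := inferInstance
  rcases hker.eq_bot_or_eq_top with hk | hk
  · -- ker = ⊥, so P = ⊤ and G is abelian
    rw [hk] at hcompl
    have hPtop : (P : Subgroup G) = ⊤ := Subgroup.isComplement'_bot_left.mp hcompl
    apply hnc
    refine ⟨⟨fun a b => ?_⟩⟩
    have ha : a ∈ Subgroup.normalizer ((A : Subgroup G) : Set G) := by
      rw [← hPA, hPtop]; exact Subgroup.le_normalizer (Subgroup.mem_top a)
    have hb : b ∈ A := by rw [← hPA, hPtop]; exact Subgroup.mem_top b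
    exact (Subgroup.mem_centralizer_iff.mp (hNC ha) b hb).symm
  · rw [hk] at hcompl
    have hPbot : (P : Subgroup G) = ⊥ := Subgroup.isComplement'_top_left.mp hcompl
    exact hA1 (by rw [← hPA, hPbot])

end Cfsg.Agent.Lib.Helper89.BG95
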